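import Mathlib
import Cfsg.Prelude.Def_KGroupFacts
import Cfsg.Agent.Lib.Helper89.SafePres2

/-!
# Stem extensions whose kernel has exponent dividing `E`: canonical lifts and a cyclic multiplier

Generalisation of `Helper89.StemSafe` / `SafePres2` from `p`-group kernels to kernels of exponent
dividing a fixed number `E`, and the criterion `hasCyclic_of_model`: if the group presented by the
conjugation relations has order at most `c * |G|` and an explicit finite model with a central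
element of order `c` in the kernel exists, then the multiplier is cyclic of order `c`.
-/

set_option autoImplicit false

namespace Cfsg.Agent.Lib.Helper92.StemE

open Cfsg.Agent.Lib.Helper89.CosetCert Cfsg.Agent.Lib.Helper89.StemSafe
open Cfsg.Agent.Lib.Helper89.SafePres Cfsg.Agent.Lib.Helper89.SafePres2

universe u

open scoped commutatorElement

section Good

variable {Γ : Type*} {G : Type*} [Group Γ] [Group G] (σ : Γ →* G) (E : ℕ)

/-- uniqueness of lifts of order prime to `E` -/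
theorem good_unique_E (hcen : σ.ker ≤ Subgroup.center Γ)
    (hE : ∀ z ∈ σ.ker, z ^ E = 1) {x y : Γ} {m m' : ℕ} (hxy : σ x = σ y)
    (hx : x ^ m = 1) (hy : y ^ m' = 1) (hm : m.Coprime E) (hm' : m'.Coprime E) : x = y := by
  set c : Γ := x⁻¹ * y with hc
  have hck : c ∈ σ.ker := by
    rw [MonoidHom.mem_ker, hc, map_mul, map_inv, hxy, inv_mul_cancel]
  have hcc := Subgroup.mem_center_iff.1 (hcen hck)
  have hyx : y = x * c := by rw [hc]; group
  have hcomm : Commute x c := (hcc x)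
  have h1 : c ^ (m * m') = 1 := by
    have h2 : y ^ (m * m') = 1 := by rw [mul_comm, pow_mul, hy, one_pow]
    rw [hyx, hcomm.mul_pow, pow_mul, hx, one_pow, one_mul] at h2
    exact h2
  have hn := hE c hck
  have hd1 := orderOf_dvd_of_pow_eq_one h1
  have hd2 := orderOf_dvd_of_pow_eq_one hn
  have hcop : (m * m').Coprime E := Nat.Coprime.mul_left hm hm'
  have : orderOf c = 1 := Nat.eq_one_of_dvd_coprimes hcop hd1 hd2
  rw [orderOf_eq_one_iff] at this
  rw [hyx, this, mul_one]

/-- existence of lifts of order prime to `E` -/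
theorem good_exists_E (hE0 : E ≠ 0) (hsurj : Function.Surjective σ)
    (hcen : σ.ker ≤ Subgroup.center Γ)
    (hE : ∀ z ∈ σ.ker, z ^ E = 1) (g : G) (n : ℕ) (hg : g ^ n = 1)
    (hn : n.Coprime E) : ∃ γ : Γ, σ γ = g ∧ γ ^ n = 1 := by
  obtain ⟨γ0, hγ0⟩ := hsurj g
  set k : Γ := γ0 ^ n with hk
  have hkk : k ∈ σ.ker := by rw [MonoidHom.mem_ker, hk, map_pow, hγ0, hg]
  have ha := hE k hkk
  by_cases h1 : E = 1
  · refine ⟨γ0, hγ0, ?_⟩
    rw [h1, pow_one] at ha
    exact ha
  · have hlt : 1 < E := by omega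
    obtain ⟨u, -, hu⟩ := Nat.exists_mul_mod_eq_one_of_coprime hn hlt
    have hkc := Subgroup.mem_center_iff.1 (hcen hkk)
    have hku : k ^ (n * u) = k := by
      rw [pow_eq_pow_mod (n * u) ha, hu, pow_one]
    set k' : Γ := (k ^ u)⁻¹ with hk'
    have hk'k : k' ∈ σ.ker := inv_mem (pow_mem hkk u)
    have hk'c := Subgroup.mem_center_iff.1 (hcen hk'k)
    refine ⟨γ0 * k', ?_, ?_⟩
    · rw [map_mul, hγ0, MonoidHom.mem_ker.1 hk'k, mul_one]
    · have hcomm : Commute γ0 k' := hk'c γ0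
      rw [hcomm.mul_pow, ← hk, hk', inv_pow, ← pow_mul, mul_comm u n, hku, mul_inv_cancel]

/-- conjugation relations between lifts of order prime to `E` lift -/
theorem safe_rel_E (hcen : σ.ker ≤ Subgroup.center Γ)
    (hE : ∀ z ∈ σ.ker, z ^ E = 1) {ti tj W : Γ} {ni nj : ℕ}
    (hi : ti ^ ni = 1) (hj : tj ^ nj = 1) (hni : ni.Coprime E) (hnj : nj.Coprime E) (z : ℤ)
    (h : σ W * σ ti * (σ W)⁻¹ = σ tj ^ z) : W * ti * W⁻¹ = tj ^ z := by
  apply good_unique_E σ E hcen hE (m := ni) (m' := nj) _ _ _ hni hnj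
  · rw [map_mul, map_mul, map_inv, h, map_zpow]
  · rw [conj_pow, hi, mul_one, mul_inv_cancel]
  · rw [← zpow_natCast, ← zpow_mul, mul_comm, zpow_mul, zpow_natCast, hj, one_zpow]

/-- conjugation relations lift to central extensions with kernel of exponent dividing `E` -/
theorem lift_srel_E (hcen : σ.ker ≤ Subgroup.center Γ) (hE : ∀ z ∈ σ.ker, z ^ E = 1)
    (t : ℕ → Γ) (ord : ℕ → ℕ) (ht : ∀ i, t i ^ ord i = 1) (hcop : ∀ i, (ord i).Coprime E)
    (r : SRel) (h : ev (fun i => σ (t i)) r.word = 1) : ev t r.word = 1 := by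
  rw [ev_srel_eq_one_iff] at h ⊢
  rw [← ev_map_hom σ t r.W] at h
  exact safe_rel_E σ E hcen hE (ht r.i) (ht r.j) (hcop r.i) (hcop r.j) _ h

end Good

/-- an element conjugate to a power of itself other than itself lies in the commutator subgroup
(prime order). -/
theorem mem_commutator_of_conj {L : Type*} [Group L] (W t : L) (n : ℕ) (hn : n.Prime)
    (ht : t ^ n = 1) (z : ℤ) (h : W * t * W⁻¹ = t ^ z) (hz : ¬ (n : ℤ) ∣ z - 1) :
    t ∈ commutator L := by
  have h1 : t ^ (z - 1) ∈ commutator L := by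
    have : t ^ (z - 1) = ⁅W, t⁆ := by
      rw [commutatorElement_def, h, zpow_sub, zpow_one]
    rw [this]
    exact Subgroup.commutator_mem_commutator (Subgroup.mem_top W) (Subgroup.mem_top t)
  have hp : Prime (n : ℤ) := Int.prime_iff_natAbs_prime.mpr (by simpa using hn)
  have hcop : IsCoprime (n : ℤ) (z - 1) := (Prime.coprime_iff_not_dvd hp).mpr hz
  obtain ⟨b, a, hab⟩ := hcop
  have h2 : t = (t ^ (z - 1)) ^ a * (t ^ (n : ℤ)) ^ b := by
    rw [← zpow_mul, ← zpow_mul, ← zpow_add, mul_comm (z - 1) a, mul_comm (n : ℤ) b, add_comm, hab,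
      zpow_one]
  rw [h2, zpow_natCast, ht, one_zpow, mul_one]
  exact (commutator L).zpow_mem h1 a

section Main

variable {G : Type u} [Group G] [Finite G]

/-- **Criterion for a cyclic multiplier of order `c`.** -/
theorem hasCyclic_of_model (E c : ℕ) (hE0 : E ≠ 0)
    (hexp : ∀ (Γ : Type u) [Group Γ] [Finite Γ] (σ : Γ →* G), Cfsg.IsStemExtension σ →
      ∀ z ∈ σ.ker, z ^ E = 1)
    (k : ℕ) (g : ℕ → G) (ord : ℕ → ℕ)
    (hord : ∀ i, g i ^ ord i = 1) (hcop : ∀ i, (ord i).Coprime E)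
    (hgen : Subgroup.closure {y | ∃ i < k, y = g i} = ⊤)
    (srels : List SRel) (hvalid : ∀ r ∈ srels, ev g r.word = 1)
    (hbound : ∀ (L : Type u) [Group L] [Finite L] (t : ℕ → L), (∀ i, t i ^ ord i = 1) →
      (∀ r ∈ srels, ev t r.word = 1) →
      Nat.card (Subgroup.closure {y | ∃ i < k, y = t i}) ≤ c * Nat.card G)
    (Γ0 : Type u) [Group Γ0] [Finite Γ0] (σ0 : Γ0 →* G) (τ : ℕ → Γ0)
    (hστ : ∀ i, σ0 (τ i) = g i) (hτord : ∀ i, τ i ^ ord i = 1)
    (hτrel : ∀ r ∈ srels, ev τ r.word = 1)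
    (hτgen : Subgroup.closure {y | ∃ i < k, y = τ i} = ⊤)
    (z : Γ0) (hzker : σ0 z = 1) (hzord : orderOf z = c) (hzcen : ∀ i < k, τ i * z = z * τ i)
    (hperf : ∀ i < k, τ i ∈ commutator Γ0) :
    Cfsg.HasCyclicSchurMultiplier G c := by
  -- the model: basic facts
  have hsurj0 : Function.Surjective σ0 := by
    have hmap : (⊤ : Subgroup Γ0).map σ0 = ⊤ := by
      rw [← hτgen, map_closure_eq σ0 k τ g hστ, hgen]
    intro y
    have : y ∈ (⊤ : Subgroup Γ0).map σ0 := by rw [hmap]; trivial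
    obtain ⟨x, -, rfl⟩ := this
    exact ⟨x, rfl⟩
  have hcard0 : Nat.card Γ0 ≤ c * Nat.card G := by
    have := hbound Γ0 τ hτord hτrel
    rwa [hτgen, Subgroup.card_top] at this
  have hkermul : Nat.card Γ0 = Nat.card σ0.ker * Nat.card G := by
    have h1 := Subgroup.card_mul_index σ0.ker
    rw [Subgroup.index_ker, MonoidHom.range_eq_top.mpr hsurj0, Subgroup.card_top] at h1
    exact h1.symm
  have hGpos : 0 < Nat.card G := Nat.card_pos
  have hkerle : Nat.card σ0.ker ≤ c := by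
    rw [hkermul] at hcard0
    exact Nat.le_of_mul_le_mul_right hcard0 hGpos
  have hzle : Subgroup.zpowers z ≤ σ0.ker := by
    rw [Subgroup.zpowers_le]
    exact hzker
  have hker : Subgroup.zpowers z = σ0.ker := by
    apply Subgroup.eq_of_le_of_card_ge hzle
    rw [Nat.card_zpowers, hzord]
    exact hkerle
  have hkercard : Nat.card σ0.ker = c := by rw [← hker, Nat.card_zpowers, hzord]
  have hcard0' : Nat.card Γ0 = c * Nat.card G := by rw [hkermul, hkercard]
  have hzcenter : z ∈ Subgroup.center Γ0 := by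
    rw [Subgroup.mem_center_iff]
    intro x
    have hx : x ∈ Subgroup.closure {y | ∃ i < k, y = τ i} := by rw [hτgen]; trivial
    induction hx using Subgroup.closure_induction with
    | mem y hy =>
      obtain ⟨i, hi, rfl⟩ := hy
      exact hzcen i hi
    | one => rw [one_mul, mul_one]
    | mul a b _ _ ha hb => rw [mul_assoc, hb, ← mul_assoc, ha, mul_assoc]
    | inv a _ ha =>
      have := congrArg (fun w => a⁻¹ * w * a⁻¹) ha
      simpa [mul_assoc] using this.symm
  have hcomm0 : commutator Γ0 = ⊤ := by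
    rw [eq_top_iff, ← hτgen, Subgroup.closure_le]
    rintro y ⟨i, hi, rfl⟩
    exact hperf i hi
  have hstem0 : Cfsg.IsStemExtension σ0 := by
    refine ⟨hsurj0, ?_, ?_⟩
    · rw [← hker, Subgroup.zpowers_le]
      exact hzcenter
    · rw [hcomm0]
      exact le_top
  -- the kernel of the model is cyclic of order `c`
  have hcyc : IsCyclic σ0.ker := by
    rw [← hker]
    infer_instance
  have e0 : Multiplicative (ZMod c) ≃* σ0.ker := by
    have e := zmodCyclicMulEquiv hcyc
    rw [hkercard] at e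
    exact e
  refine ⟨⟨Γ0, inferInstance, inferInstance, σ0, hstem0, ⟨e0.symm⟩⟩, ?_⟩
  -- every stem extension is a quotient of the model
  intro Γ _ _ σ hσ
  have hE := hexp Γ σ hσ
  obtain ⟨hsurj, hcen, hcomm⟩ := hσ
  have hex : ∀ i, ∃ γ : Γ, σ γ = g i ∧ γ ^ ord i = 1 := fun i =>
    good_exists_E σ E hE0 hsurj hcen hE (g i) (ord i) (hord i) (hcop i)
  choose t hσt ht using hex
  have hfun : (fun i => σ (t i)) = g := funext hσt
  have hrelΓ : ∀ r ∈ srels, ev t r.word = 1 := by
    intro r hr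
    apply lift_srel_E σ E hcen hE t ord ht hcop r
    rw [hfun]
    exact hvalid r hr
  set T : Subgroup Γ := Subgroup.closure {y | ∃ i < k, y = t i} with hT
  have hmap : T.map σ = ⊤ := by
    rw [hT, map_closure_eq σ k t g hσt, hgen]
  have hKT : σ.ker ≤ T := le_trans hcomm (commutator_le_of_map_eq_top σ hcen T hmap)
  have hTtop : T = ⊤ := by
    rw [eq_top_iff]
    intro γ _
    have : σ γ ∈ T.map σ := by rw [hmap]; trivial
    obtain ⟨l, hl, hlγ⟩ := this
    have hmem : l⁻¹ * γ ∈ σ.ker := by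
      rw [MonoidHom.mem_ker, map_mul, map_inv, hlγ, inv_mul_cancel]
    have : γ = l * (l⁻¹ * γ) := by group
    rw [this]
    exact T.mul_mem hl (hKT hmem)
  -- the diagonal subgroup
  let d : ℕ → Γ × Γ0 := fun i => (t i, τ i)
  set D : Subgroup (Γ × Γ0) := Subgroup.closure {y | ∃ i < k, y = d i} with hD
  have hDcard : Nat.card D ≤ c * Nat.card G := by
    apply hbound (Γ × Γ0) d
    · intro i
      show (t i, τ i) ^ ord i = 1
      rw [Prod.pow_mk, ht i, hτord i]
      rfl
    · intro r hr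
      show ev (fun i => (t i, τ i)) r.word = 1
      rw [ev_prod, hrelΓ r hr, hτrel r hr]
      rfl
  have hD1 : D.map (MonoidHom.fst Γ Γ0) = ⊤ := by
    rw [hD, map_closure_eq (MonoidHom.fst Γ Γ0) k d t (fun i => rfl), ← hT, hTtop]
  have hD2 : D.map (MonoidHom.snd Γ Γ0) = ⊤ := by
    rw [hD, map_closure_eq (MonoidHom.snd Γ Γ0) k d τ (fun i => rfl), hτgen]
  have hcompat : ∀ x ∈ D, σ x.1 = σ0 x.2 := by
    intro x hx
    induction hx using Subgroup.closure_induction with
    | mem y hy =>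
      obtain ⟨i, hi, rfl⟩ := hy
      show σ (t i) = σ0 (τ i)
      rw [hσt, hστ]
    | one => simp
    | mul a b _ _ ha hb => simp [ha, hb]
    | inv a _ ha => simp [ha]
  -- the second projection is bijective on `D`
  let p2 : D → Γ0 := fun x => x.1.2
  have hp2s : Function.Surjective p2 := by
    intro y
    have : y ∈ D.map (MonoidHom.snd Γ Γ0) := by rw [hD2]; trivial
    obtain ⟨x, hx, rfl⟩ := this
    exact ⟨⟨x, hx⟩, rfl⟩
  have hp2b : Function.Bijective p2 := by
    have hge : Nat.card Γ0 ≤ Nat.card D := Nat.card_le_card_of_surjective p2 hp2s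
    have hle : Nat.card D ≤ Nat.card Γ0 := by rw [hcard0']; exact hDcard
    exact (Nat.bijective_iff_surjective_and_card p2).2 ⟨hp2s, le_antisymm hle hge⟩
  -- for `a` in the kernel of `σ` there is a power of `z` above it
  have hkey : ∀ a ∈ σ.ker, ∃ n : ℤ, ((a, z ^ n) : Γ × Γ0) ∈ D := by
    intro a ha
    have : a ∈ D.map (MonoidHom.fst Γ Γ0) := by rw [hD1]; trivial
    obtain ⟨x, hx, hxa⟩ := this
    have h1 : σ0 x.2 = 1 := by
      rw [← hcompat x hx]
      have : x.1 = a := hxa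
      rw [this]
      exact ha
    have h2 : x.2 ∈ Subgroup.zpowers z := by rw [hker]; exact h1
    obtain ⟨n, hn⟩ := Subgroup.mem_zpowers_iff.1 h2
    refine ⟨n, ?_⟩
    have : x = (a, z ^ n) := Prod.ext hxa hn.symm
    rw [← this]
    exact hx
  -- the map `n ↦ first coordinate of the element of D above z ^ n`
  have huniq : ∀ x ∈ D, ∀ y ∈ D, x.2 = y.2 → x = y := by
    intro x hx y hy h
    have := hp2b.1 (a₁ := ⟨x, hx⟩) (a₂ := ⟨y, hy⟩) h
    exact congrArg Subtype.val this
  have hzD : ∃ a : Γ, ((a, z) : Γ × Γ0) ∈ D := by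
    obtain ⟨x, hx⟩ := hp2s z
    exact ⟨x.1.1, by
      have : x.1 = (x.1.1, z) := Prod.ext rfl hx
      rw [← this]; exact x.2⟩
  obtain ⟨a0, ha0⟩ := hzD
  have ha0ker : a0 ∈ σ.ker := by
    rw [MonoidHom.mem_ker]
    have := hcompat _ ha0
    simpa [hzker] using this
  have hz1 : z ^ c = 1 := by rw [← hzord]; exact pow_orderOf_eq_one z
  have ha0pow : a0 ^ c = 1 := by
    have h1 : ((a0, z) : Γ × Γ0) ^ c ∈ D := D.pow_mem ha0 c
    rw [Prod.pow_mk, hz1] at h1
    have h2 : ((1 : Γ), (1 : Γ0)) ∈ D := D.one_mem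
    have := huniq _ h1 _ h2 rfl
    exact congrArg Prod.fst this
  have hgen_ker : ∀ a ∈ σ.ker, a ∈ Subgroup.zpowers a0 := by
    intro a ha
    obtain ⟨n, hn⟩ := hkey a ha
    have h1 : ((a0, z) : Γ × Γ0) ^ n ∈ D := D.zpow_mem ha0 n
    have h1' : ((a0, z) : Γ × Γ0) ^ n = (a0 ^ n, z ^ n) := by
      apply Prod.ext
      · exact map_zpow (MonoidHom.fst Γ Γ0) (a0, z) n
      · exact map_zpow (MonoidHom.snd Γ Γ0) (a0, z) n
    rw [h1'] at h1
    have := huniq _ hn _ h1 rfl
    have h2 : a = a0 ^ n := congrArg Prod.fst this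
    rw [h2]
    exact Subgroup.zpow_mem_zpowers a0 n
  -- the kernel is cyclic of order dividing `c`
  have hcycK : IsCyclic σ.ker := by
    refine ⟨⟨⟨a0, ha0ker⟩, fun x => ?_⟩⟩
    obtain ⟨n, hn⟩ := Subgroup.mem_zpowers_iff.1 (hgen_ker x.1 x.2)
    exact ⟨n, Subtype.ext (by simpa using hn)⟩
  have hordK : orderOf (⟨a0, ha0ker⟩ : σ.ker) = Nat.card σ.ker := by
    apply orderOf_eq_card_of_forall_mem_zpowers
    intro x
    obtain ⟨n, hn⟩ := Subgroup.mem_zpowers_iff.1 (hgen_ker x.1 x.2)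
    exact Subgroup.mem_zpowers_iff.2 ⟨n, Subtype.ext (by simpa using hn)⟩
  have hdvd : Nat.card σ.ker ∣ c := by
    rw [← hordK]
    apply orderOf_dvd_of_pow_eq_one
    apply Subtype.ext
    simpa using ha0pow
  have hsurjc : Function.Surjective (ZMod.castHom hdvd (ZMod (Nat.card σ.ker))) :=
    ZMod.ringHom_surjective _
  refine ⟨(zmodCyclicMulEquiv hcycK).toMonoidHom.comp
    (AddMonoidHom.toMultiplicative
      (ZMod.castHom hdvd (ZMod (Nat.card σ.ker))).toAddMonoidHom), ?_⟩
  intro y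
  obtain ⟨x, hx⟩ := (zmodCyclicMulEquiv hcycK).surjective y
  obtain ⟨w, hw⟩ := hsurjc (Multiplicative.toAdd x)
  refine ⟨Multiplicative.ofAdd w, ?_⟩
  rw [← hx]
  show (zmodCyclicMulEquiv hcycK) (Multiplicative.ofAdd
    ((ZMod.castHom hdvd (ZMod (Nat.card σ.ker))) w)) = _
  rw [hw]
  rfl

end Main

end Cfsg.Agent.Lib.Helper92.StemE
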