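import Cfsg.Agent.Lib.Helper92.M22.ModData

set_option autoImplicit false
set_option maxRecDepth 1000000
set_option maxHeartbeats 0
set_option Elab.async false

namespace Cfsg.Agent.Lib.Helper92.M22.Mod

open Cfsg.Agent.Lib.Helper89.CosetCert Cfsg.Agent.Lib.Helper89.SafePres Cfsg.Agent.Lib.Helper93.BigPerm

def rs10 : List Word := [
  [1, 4, 8, 1, 4, 8, 5, 0, 9, 5, 0, 9],
  [2, 8, 0, 7, 0, 8, 1, 6, 1, 9, 3, 9],
  [6, 8, 1, 2, 9, 4, 8, 3, 0, 9, 7, 2],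
  [9, 0, 0, 3, 8, 2, 9, 2, 1, 1, 8, 2],
  [9, 5, 0, 9, 5, 0, 4, 8, 1, 4, 8, 1]]

theorem rs10_ok : X.relsOK rs10 = true := by decide +kernel

end Cfsg.Agent.Lib.Helper92.M22.Mod
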