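import Cfsg.Agent.Lib.Helper92.M22.ModData

set_option autoImplicit false
set_option maxRecDepth 1000000
set_option maxHeartbeats 0
set_option Elab.async false

namespace Cfsg.Agent.Lib.Helper92.M22.Mod

open Cfsg.Agent.Lib.Helper89.CosetCert Cfsg.Agent.Lib.Helper89.SafePres Cfsg.Agent.Lib.Helper93.BigPerm

def rs11 : List Word := [
  [0, 4, 4, 3, 8, 2, 5, 5, 1, 8, 8, 8],
  [10, 10, 10, 10, 10, 10, 10, 10, 10, 10, 10, 10],
  [0, 0, 2, 6, 6, 7, 3, 1, 1, 7, 7],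
  [7, 2, 5, 7, 2, 6, 4, 3, 6, 0, 0],
  [8, 1, 4, 8, 4, 9, 5, 0, 9, 2, 2]]

theorem rs11_ok : X.relsOK rs11 = true := by decide +kernel

end Cfsg.Agent.Lib.Helper92.M22.Mod
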