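import Cfsg.Agent.Lib.Helper92.M22.ModData

set_option autoImplicit false
set_option maxRecDepth 1000000
set_option maxHeartbeats 0
set_option Elab.async false

namespace Cfsg.Agent.Lib.Helper92.M22.Mod

open Cfsg.Agent.Lib.Helper89.CosetCert Cfsg.Agent.Lib.Helper89.SafePres Cfsg.Agent.Lib.Helper93.BigPerm

def rs9 : List Word := [
  [5, 2, 2, 1, 5, 8, 4, 0, 3, 3, 4, 9, 9],
  [7, 1, 7, 1, 2, 8, 3, 0, 6, 0, 6, 9, 9],
  [8, 3, 4, 8, 5, 0, 4, 9, 5, 2, 9, 3, 3],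
  [4, 6, 2, 6, 5, 4, 4, 7, 3, 7, 5, 0],
  [5, 5, 6, 2, 7, 4, 4, 2, 2]]

theorem rs9_ok : X.relsOK rs9 = true := by decide +kernel

end Cfsg.Agent.Lib.Helper92.M22.Mod
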