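import Cfsg.Agent.Lib.Helper92.M22.M22G
import Cfsg.Agent.Lib.Helper92.M22.L1Cert
import Cfsg.Agent.Lib.Helper92.M22.L2Cert
import Cfsg.Agent.Lib.Helper92.M22.L3Cert
import Cfsg.Agent.Lib.Helper92.M22.L4Cert
import Cfsg.Agent.Lib.Helper92.M22.L5Cert
import Cfsg.Agent.Lib.Helper92.M22.ModR0
import Cfsg.Agent.Lib.Helper92.M22.ModR1
import Cfsg.Agent.Lib.Helper92.M22.ModR2
import Cfsg.Agent.Lib.Helper92.M22.ModR3
import Cfsg.Agent.Lib.Helper92.M22.ModR4
import Cfsg.Agent.Lib.Helper92.M22.ModR5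
import Cfsg.Agent.Lib.Helper92.M22.ModR6
import Cfsg.Agent.Lib.Helper92.M22.ModR7
import Cfsg.Agent.Lib.Helper92.M22.ModR8
import Cfsg.Agent.Lib.Helper92.M22.ModR9
import Cfsg.Agent.Lib.Helper92.M22.ModR10
import Cfsg.Agent.Lib.Helper92.M22.ModR11
import Cfsg.Agent.Lib.Helper92.M22.ModR12
import Cfsg.Agent.Lib.Helper92.M22.ModR13
import Cfsg.Agent.Lib.Helper92.M22.StemE

/-! # The Schur multiplier of `M22` is cyclic of order twelve -/

set_option autoImplicit false
set_option maxRecDepth 1000000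
set_option maxHeartbeats 0

namespace Cfsg.Agent.Lib.Helper92.M22

open Cfsg Cfsg.Agent.Lib.Helper89.CosetCert Cfsg.Agent.Lib.Helper89.SafePres
open Cfsg.Agent.Lib.Helper89.StemSafe Cfsg.Agent.Lib.Helper89.SafePres2
open Cfsg.Agent.Lib.Helper93.BigPerm Cfsg.Agent.Lib.Helper92.M22.M22G
open Cfsg.Agent.Lib.Helper92.StemE
open scoped commutatorElement

/-- conjugation relations `W t_i W⁻¹ = t_i ^ f` used for perfectness -/
def selfRels : List SRel := [
  ⟨[4, 0, 4], 0, 0, 1, true⟩,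
  ⟨[5, 5, 6], 1, 1, 2, true⟩,
  ⟨[1, 1, 2], 2, 2, 1, true⟩,
  ⟨[0, 0, 2], 3, 3, 2, false⟩,
  ⟨[0, 4, 4, 3], 4, 4, 3, true⟩]

/-- all conjugation relators -/
def srelsAll : List SRel := L2.srels ++ L3.srels ++ L4.srels ++ L5.srels ++ selfRels

/-- the word of the central element of order twelve -/
def zw : Word := [0, 9, 0, 9, 0, 9, 0, 9, 0, 9, 0, 9, 0, 9]

/-! ### validity in `M22` -/

theorem validG : relsOK (srelsAll.map SRel.word ++ [zw]) = true := by decide +kernel

theorem hvalid : ∀ r ∈ srelsAll, ev g r.word = 1 := fun r hr =>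
  relsOK_valid _ validG _ (List.mem_append_left _ (List.mem_map_of_mem hr))

theorem zw_g : ev g zw = 1 :=
  relsOK_valid _ validG _ (List.mem_append_right _ (List.mem_singleton.2 rfl))

/-! ### validity in the model -/

/-- the generators of the permutation model (`gmX 5` is the central element) -/
def gmX : ℕ → Equiv.Perm (Fin Mod.X.N) := Model.gm Mod.X_ok

def allW : List Word :=
  Mod.rs0 ++ Mod.rs1 ++ Mod.rs2 ++ Mod.rs3 ++ Mod.rs4 ++ Mod.rs5 ++ Mod.rs6 ++ Mod.rs7 ++ Mod.rs8 ++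
    Mod.rs9 ++ Mod.rs10 ++ Mod.rs11 ++ Mod.rs12 ++ Mod.rs13

theorem hmodW : ∀ w ∈ allW, ev gmX w = 1 := by
  intro w hw
  unfold allW at hw
  simp only [List.mem_append] at hw
  rcases hw with ((((((((((((h | h) | h) | h) | h) | h) | h) | h) | h) | h) | h) | h) | h) | h
  · exact Model.relsOK_valid Mod.X_ok _ Mod.rs0_ok w h
  · exact Model.relsOK_valid Mod.X_ok _ Mod.rs1_ok w h
  · exact Model.relsOK_valid Mod.X_ok _ Mod.rs2_ok w h
  · exact Model.relsOK_valid Mod.X_ok _ Mod.rs3_ok w h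
  · exact Model.relsOK_valid Mod.X_ok _ Mod.rs4_ok w h
  · exact Model.relsOK_valid Mod.X_ok _ Mod.rs5_ok w h
  · exact Model.relsOK_valid Mod.X_ok _ Mod.rs6_ok w h
  · exact Model.relsOK_valid Mod.X_ok _ Mod.rs7_ok w h
  · exact Model.relsOK_valid Mod.X_ok _ Mod.rs8_ok w h
  · exact Model.relsOK_valid Mod.X_ok _ Mod.rs9_ok w h
  · exact Model.relsOK_valid Mod.X_ok _ Mod.rs10_ok w h
  · exact Model.relsOK_valid Mod.X_ok _ Mod.rs11_ok w h
  · exact Model.relsOK_valid Mod.X_ok _ Mod.rs12_ok w h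
  · exact Model.relsOK_valid Mod.X_ok _ Mod.rs13_ok w h

/-- the first five generators of the model -/
def gm (i : ℕ) : Equiv.Perm (Fin Mod.X.N) := if i < 5 then gmX i else 1

theorem gm_eq_one (i : ℕ) (hi : 5 ≤ i) : gm i = 1 := by
  unfold gm
  rw [if_neg (by omega)]

theorem lv_gm (l : ℕ) (hl : l < 10) : lv gm l = lv gmX l := by
  have e : gm (l / 2) = gmX (l / 2) := by
    unfold gm
    rw [if_pos (by omega)]
  unfold lv
  rw [e]

theorem ev_gm (w : Word) (hw : ∀ l ∈ w, l < 10) : ev gm w = ev gmX w := by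
  induction w with
  | nil => rfl
  | cons l w ih =>
    rw [ev_cons, ev_cons, ih (fun l' hl' => hw l' (List.mem_cons_of_mem _ hl')),
      lv_gm l (hw l List.mem_cons_self)]

theorem mem_allW : ∀ r ∈ srelsAll, r.word ∈ allW ∧ ∀ l ∈ r.word, l < 10 := by decide +kernel

theorem hvalidM : ∀ r ∈ srelsAll, ev gm r.word = 1 := fun r hr => by
  rw [ev_gm _ (mem_allW r hr).2]
  exact hmodW _ (mem_allW r hr).1

theorem pow_mem_allW : ∀ q ∈ L5.pw, powWord q.1 q.2 ∈ allW := by decide +kernel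

/-- the relator `z * zw⁻¹` -/
def zdefW : Word := 10 :: winv zw

theorem zdef_mem_allW : zdefW ∈ allW := by decide +kernel

theorem cent_mem_allW : ∀ i < 5, [2 * i, 10, 2 * i + 1, 11] ∈ allW := by decide +kernel

theorem z12_mem_allW : powWord 12 5 ∈ allW := by decide +kernel

/-- the value of `zw` in the model is the sixth generator -/
theorem ev_zw : ev gm zw = gmX 5 := by
  rw [ev_gm zw (by decide)]
  have h := hmodW _ zdef_mem_allW
  unfold zdefW at h
  rw [ev_cons, ev_winv, show (10 : ℕ) = 2 * 5 from rfl, lv_two_mul] at h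
  exact (mul_inv_eq_one.mp h).symm

theorem gmX5_pow12 : gmX 5 ^ 12 = 1 := by
  have h := hmodW _ z12_mem_allW
  rwa [ev_powWord] at h

theorem gmX5_comm (i : ℕ) (hi : i < 5) : gm i * gmX 5 = gmX 5 * gm i := by
  have h := hmodW _ (cent_mem_allW i hi)
  rw [ev_cons, ev_cons, ev_cons, ev_cons, ev_nil, mul_one, lv_two_mul, lv_two_mul_add_one,
    show (10 : ℕ) = 2 * 5 from rfl, show (11 : ℕ) = 2 * 5 + 1 from rfl, lv_two_mul,
    lv_two_mul_add_one] at h
  have e : gm i = gmX i := by unfold gm; rw [if_pos hi]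
  rw [e]
  have h2 : gmX i * gmX 5 = (gmX i * (gmX 5 * ((gmX i)⁻¹ * (gmX 5)⁻¹))) * (gmX 5 * gmX i) := by
    group
  rw [h2, h, one_mul]

theorem gmX5_pow_ne (n x : ℕ) (hx : x < Mod.X.N)
    (h : Cfsg.Agent.Lib.Helper89.TableChain2.act Mod.X.tab (List.replicate n 10) x ≠ x) :
    gmX 5 ^ n ≠ 1 := by
  have h1 := Model.ev_ne_one Mod.X_ok (List.replicate n 10) (by
    intro c hc
    rw [List.mem_replicate] at hc
    rw [hc.2]
    decide) x hx h
  have e : ev gmX (List.replicate n 10) = gmX 5 ^ n := ev_replicate_even gmX 5 n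
  rw [← e]
  exact h1

theorem gmX5_pow4 : gmX 5 ^ 4 ≠ 1 := gmX5_pow_ne 4 4928 (by decide) (by decide +kernel)

theorem gmX5_pow6 : gmX 5 ^ 6 ≠ 1 := gmX5_pow_ne 6 0 (by decide) (by decide +kernel)

/-! ### the presentation bound -/

theorem pw1 : ∀ q ∈ L1.pw, q.1 = ord q.2 ∧ q.2 < 5 := by decide
theorem pw2 : ∀ q ∈ L2.pw, q.1 = ord q.2 ∧ q.2 < 5 := by decide
theorem pw3 : ∀ q ∈ L3.pw, q.1 = ord q.2 ∧ q.2 < 5 := by decide
theorem pw4 : ∀ q ∈ L4.pw, q.1 = ord q.2 ∧ q.2 < 5 := by decide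
theorem pw5 : ∀ q ∈ L5.pw, q.1 = ord q.2 ∧ q.2 < 5 := by decide

theorem closure_empty {L : Type*} [Group L] (t : ℕ → L) :
    Nat.card (Subgroup.closure {y | ∃ i < 0, y = t i}) ≤ 1 := by
  have : {y | ∃ i < 0, y = t i} = (∅ : Set L) := by
    ext y
    simp
  rw [this, Subgroup.closure_empty, Subgroup.card_bot]

/-- the chain of coset enumerations bounds the order of any group satisfying the relators -/
theorem hbound (L : Type) [Group L] [Finite L] (t : ℕ → L) (ht : ∀ i, t i ^ ord i = 1)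
    (hs : ∀ r ∈ srelsAll, ev t r.word = 1) :
    Nat.card (Subgroup.closure {y | ∃ i < 5, y = t i}) ≤ 12 * 443520 := by
  have hs2 : ∀ r ∈ L2.srels, ev t r.word = 1 := fun r hr => hs r (by
    unfold srelsAll; simp only [List.mem_append]; tauto)
  have hs3 : ∀ r ∈ L3.srels, ev t r.word = 1 := fun r hr => hs r (by
    unfold srelsAll; simp only [List.mem_append]; tauto)
  have hs4 : ∀ r ∈ L4.srels, ev t r.word = 1 := fun r hr => hs r (by
    unfold srelsAll; simp only [List.mem_append]; tauto)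
  have hs5 : ∀ r ∈ L5.srels, ev t r.word = 1 := fun r hr => hs r (by
    unfold srelsAll; simp only [List.mem_append]; tauto)
  have hr1 : ∀ r ∈ L1.cert.rels, ev t r = 1 := by
    show ∀ r ∈ L1.rels, ev t r = 1
    rw [L1.rels_eq]
    exact rels_valid t _ _ (fun q hq => by rw [(pw1 q hq).1]; exact ht _)
      (fun _ hr => (L1.mem_srels hr).elim)
  have hr2 : ∀ r ∈ L2.cert.rels, ev t r = 1 := by
    show ∀ r ∈ L2.rels, ev t r = 1
    rw [L2.rels_eq]
    exact rels_valid t _ _ (fun q hq => by rw [(pw2 q hq).1]; exact ht _) hs2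
  have hr3 : ∀ r ∈ L3.cert.rels, ev t r = 1 := by
    show ∀ r ∈ L3.rels, ev t r = 1
    rw [L3.rels_eq]
    exact rels_valid t _ _ (fun q hq => by rw [(pw3 q hq).1]; exact ht _) hs3
  have hr4 : ∀ r ∈ L4.cert.rels, ev t r = 1 := by
    show ∀ r ∈ L4.rels, ev t r = 1
    rw [L4.rels_eq]
    exact rels_valid t _ _ (fun q hq => by rw [(pw4 q hq).1]; exact ht _) hs4
  have hr5 : ∀ r ∈ L5.cert.rels, ev t r = 1 := by
    show ∀ r ∈ L5.rels, ev t r = 1
    rw [L5.rels_eq]
    exact rels_valid t _ _ (fun q hq => by rw [(pw5 q hq).1]; exact ht _) hs5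
  have c1 := cert_step t L1.cert L1.cert_ok hr1 1 (closure_empty t)
  have c2 := cert_step t L2.cert L2.cert_ok hr2 _ c1
  have c3 := cert_step t L3.cert L3.cert_ok hr3 _ c2
  have c4 := cert_step t L4.cert L4.cert_ok hr4 _ c3
  have c5 := cert_step t L5.cert L5.cert_ok hr5 _ c4
  exact c5

/-! ### the exponent of the kernel of a stem extension -/

theorem hexp (Γ : Type) [Group Γ] [Finite Γ] (σ : Γ →* ↥Spor.M22)
    (hσ : Cfsg.IsStemExtension σ) : ∀ z ∈ σ.ker, z ^ 1152 = 1 := by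
  intro z hz
  have hc := pow_card_eq_one σ hσ hz
  rw [card_M22] at hc
  have hd : orderOf z ∣ 1152 * 385 := by
    have := orderOf_dvd_of_pow_eq_one hc
    norm_num at this ⊢
    exact this
  have h5 : ¬ 5 ∣ orderOf z :=
    not_dvd_of_cyclic_sylow σ hσ 5 (by norm_num) (g 0) 1 88704
      (by rw [pow_one]; exact orderOf_g0)
      (by rw [card_M22]; norm_num) (by norm_num) hz
  have h7 : ¬ 7 ∣ orderOf z :=
    not_dvd_of_cyclic_sylow σ hσ 7 (by norm_num) (g 3) 1 63360
      (by rw [pow_one]; exact orderOf_g3)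
      (by rw [card_M22]; norm_num) (by norm_num) hz
  have h11 : ¬ 11 ∣ orderOf z :=
    not_dvd_of_cyclic_sylow σ hσ 11 (by norm_num) x11 1 40320
      (by rw [pow_one]; exact orderOf_x11)
      (by rw [card_M22]; norm_num) (by norm_num) hz
  have hcop : Nat.Coprime (orderOf z) 385 := by
    have e : (385 : ℕ) = 5 * 7 * 11 := by norm_num
    rw [e]
    refine Nat.Coprime.mul_right (Nat.Coprime.mul_right ?_ ?_) ?_
    · exact (Nat.Coprime.symm ((Nat.Prime.coprime_iff_not_dvd (by norm_num)).2 h5))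
    · exact (Nat.Coprime.symm ((Nat.Prime.coprime_iff_not_dvd (by norm_num)).2 h7))
    · exact (Nat.Coprime.symm ((Nat.Prime.coprime_iff_not_dvd (by norm_num)).2 h11))
  exact orderOf_dvd_iff_pow_eq_one.mp (hcop.dvd_of_dvd_mul_right hd)

/-! ### the explicit cover -/

/-- the generators of the cover inside `Perm (Fin 6314) × M22` -/
noncomputable def tau (i : ℕ) : Equiv.Perm (Fin Mod.X.N) × ↥Spor.M22 := (gm i, g i)

/-- the cover -/
noncomputable def Gam : Subgroup (Equiv.Perm (Fin Mod.X.N) × ↥Spor.M22) :=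
  Subgroup.closure {y | ∃ i < 5, y = tau i}

theorem tau_mem (i : ℕ) : tau i ∈ Gam := by
  by_cases hi : i < 5
  · exact Subgroup.subset_closure ⟨i, hi, rfl⟩
  · have h1 : tau i = 1 := by
      unfold tau
      rw [gm_eq_one i (by omega), g_eq_one i (by omega)]
      rfl
    rw [h1]
    exact Gam.one_mem

/-- the generators as elements of the cover -/
noncomputable def tau' (i : ℕ) : Gam := ⟨tau i, tau_mem i⟩

theorem ev_tau' (w : Word) : ((ev tau' w : Gam) : Equiv.Perm (Fin Mod.X.N) × ↥Spor.M22) =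
    (ev gm w, ev g w) := by
  have h1 := ev_map_hom Gam.subtype tau' w
  have h2 : (fun i => Gam.subtype (tau' i)) = fun i => (gm i, g i) := rfl
  rw [h2, ev_prod] at h1
  exact h1

theorem ev_tau'_eq_one (w : Word) (h1 : ev gm w = 1) (h2 : ev g w = 1) : ev tau' w = 1 := by
  apply Subtype.ext
  rw [ev_tau', h1, h2]
  rfl

/-- the projection of the cover onto `M22` -/
noncomputable def sig : Gam →* ↥Spor.M22 := (MonoidHom.snd _ _).comp Gam.subtype

theorem sig_tau' (i : ℕ) : sig (tau' i) = g i := rfl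

theorem gm_pow (i : ℕ) : gm i ^ ord i = 1 := by
  by_cases hi : i < 5
  · have hmem : powWord (ord i) i ∈ allW := by
      have := pow_mem_allW (ord i, i) (by
        interval_cases i <;> decide)
      exact this
    have := hmodW _ hmem
    rw [ev_powWord] at this
    unfold gm
    rwa [if_pos hi]
  · rw [gm_eq_one i (by omega), one_pow]

theorem tau'_pow (i : ℕ) : tau' i ^ ord i = 1 := by
  apply Subtype.ext
  show (gm i, g i) ^ ord i = 1
  rw [Prod.pow_mk, gm_pow, g_pow]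
  rfl

theorem tau'_rel : ∀ r ∈ srelsAll, ev tau' r.word = 1 := fun r hr =>
  ev_tau'_eq_one _ (hvalidM r hr) (hvalid r hr)

theorem tau'_gen : Subgroup.closure {y | ∃ i < 5, y = tau' i} = ⊤ := by
  have h := Subgroup.closure_closure_coe_preimage (k := {y | ∃ i < 5, y = tau i})
  have e : {y : Gam | ∃ i < 5, y = tau' i} =
      ((↑) ⁻¹' {y | ∃ i < 5, y = tau i} : Set Gam) := by
    ext y
    constructor
    · rintro ⟨i, hi, rfl⟩
      exact ⟨i, hi, rfl⟩
    · rintro ⟨i, hi, h⟩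
      exact ⟨i, hi, Subtype.ext h⟩
  rw [e]
  exact h

/-- the central element -/
noncomputable def zz : Gam := ev tau' zw

theorem zz_coe : ((zz : Gam) : Equiv.Perm (Fin Mod.X.N) × ↥Spor.M22) = (gmX 5, 1) := by
  show ((ev tau' zw : Gam) : Equiv.Perm (Fin Mod.X.N) × ↥Spor.M22) = _
  rw [ev_tau', ev_zw, zw_g]

theorem zz_pow_coe (n : ℕ) :
    ((zz ^ n : Gam) : Equiv.Perm (Fin Mod.X.N) × ↥Spor.M22) = (gmX 5 ^ n, 1) := by
  rw [Subgroup.coe_pow, zz_coe, Prod.pow_mk, one_pow]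

theorem zz_pow12 : zz ^ 12 = 1 := by
  apply Subtype.ext
  rw [zz_pow_coe, gmX5_pow12]
  rfl

theorem zz_pow4 : zz ^ 4 ≠ 1 := by
  intro h
  have h2 := congrArg (fun y : Gam => (y : Equiv.Perm (Fin Mod.X.N) × ↥Spor.M22).1) h
  simp only [zz_pow_coe] at h2
  exact gmX5_pow4 h2

theorem zz_pow6 : zz ^ 6 ≠ 1 := by
  intro h
  have h2 := congrArg (fun y : Gam => (y : Equiv.Perm (Fin Mod.X.N) × ↥Spor.M22).1) h
  simp only [zz_pow_coe] at h2
  exact gmX5_pow6 h2

theorem zz_order : orderOf zz = 12 := by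
  have hd : orderOf zz ∣ 12 := orderOf_dvd_of_pow_eq_one zz_pow12
  have h4 : ¬ orderOf zz ∣ 4 := fun h => zz_pow4 (orderOf_dvd_iff_pow_eq_one.mp h)
  have h6 : ¬ orderOf zz ∣ 6 := fun h => zz_pow6 (orderOf_dvd_iff_pow_eq_one.mp h)
  have hle : orderOf zz ≤ 12 := Nat.le_of_dvd (by norm_num) hd
  have hpos : 0 < orderOf zz := Nat.pos_of_dvd_of_pos hd (by norm_num)
  interval_cases h : orderOf zz <;> omega

theorem zz_ker : sig zz = 1 := by
  show ((zz : Gam) : Equiv.Perm (Fin Mod.X.N) × ↥Spor.M22).2 = 1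
  rw [zz_coe]

theorem zz_cen : ∀ i < 5, tau' i * zz = zz * tau' i := by
  intro i hi
  apply Subtype.ext
  rw [Subgroup.coe_mul, Subgroup.coe_mul, zz_coe]
  show (gm i, g i) * (gmX 5, 1) = (gmX 5, 1) * (gm i, g i)
  rw [Prod.mk_mul_mk, Prod.mk_mul_mk, gmX5_comm i hi, mul_one, one_mul]

theorem self_mem : ∀ i < 5, ∃ r ∈ srelsAll, r.i = i ∧ r.j = i ∧
    ¬ ((ord i : ℤ) ∣ (if r.neg then -(r.f : ℤ) else (r.f : ℤ)) - 1) := by decide

theorem ord_prime : ∀ i < 5, (ord i).Prime := by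
  intro i hi
  interval_cases i <;> norm_num [ord]

theorem tau'_perf : ∀ i < 5, tau' i ∈ commutator Gam := by
  intro i hi
  obtain ⟨r, hr, hri, hrj, hz⟩ := self_mem i hi
  have h := (ev_srel_eq_one_iff tau' r).mp (tau'_rel r hr)
  rw [hri, hrj] at h
  exact mem_commutator_of_conj (ev tau' r.W) (tau' i) (ord i) (ord_prime i hi) (tau'_pow i) _ h hz

/-- **The Schur multiplier of `M22` is cyclic of order twelve.** -/
theorem main : Cfsg.HasCyclicSchurMultiplier ↥Spor.M22 12 := by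
  refine hasCyclic_of_model 1152 12 (by norm_num) hexp 5 g ord g_pow ord_coprime closure_g
    srelsAll hvalid ?_ Gam sig tau' sig_tau' tau'_pow tau'_rel tau'_gen zz zz_ker zz_order zz_cen
    tau'_perf
  intro L _ _ t ht hs
  rw [card_M22]
  exact hbound L t ht hs

end Cfsg.Agent.Lib.Helper92.M22
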